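import Groth.Prelude.Def_AlgSpPerf
import Groth.Agent.H13EtMod.Coh
import Groth.Agent.H12AlgSp.QC
import Groth.Agent.S6689

/-!
# Perfect objects on a quasi-compact algebraic space are bounded above
-/

set_option backward.isDefEq.respectTransparency false

universe u

open CategoryTheory CategoryTheory.Limits CategoryTheory.Pretriangulated AlgebraicGeometry Opposite
attribute [local instance] HasDerivedCategory.standard
open AlgSp Groth.Agent.H12AlgSp Groth.Agent.H12AlgSp.BCMod Groth.Agent.H13EtMod

namespace Groth.Agent.H12AlgSp.EtPerf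

variable {S : Scheme.{u}} {X : Sp S}

/-- A module with zero restriction to `V` has no sections on the objects over `V`. -/
theorem subsingleton_of_isZero_res {V W : EtOver X} {M : ModEt X} (g : W ⟶ V)
    (h : IsZero ((resModEt V).obj M)) : Subsingleton ((pm M).obj (op W)) := by
  have h0 := congrArg (fun φ : (resModEt V).obj M ⟶ (resModEt V).obj M => φ.val.app (op (Over.mk g)))
    (IsZero.iff_id_eq_zero _ |>.1 h)
  refine subsingleton_of_forall_eq 0 fun s => ?_
  exact ConcreteCategory.congr_hom h0 s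

/-- A module whose restrictions to the members of an affine cover of a surjective chart are zero is zero. -/
theorem isZero_of_chart {M : ModEt X} (E₀ : EtOver X) (hs : Set.range (Points.ofPt E₀.obj.hom) = Set.univ)
    (U : AffCov (etAff X) E₀) (h : ∀ (i : U.κ) (W : EtOver X), (W ⟶ U.Z i) → Subsingleton ((pm M).obj (op W))) :
    IsZero M := by
  rw [IsZero.iff_id_eq_zero]
  refine hom_ext_affine fun E _ z => ?_
  suffices hz : ∀ s : (pm M).obj (op E), s = 0 from (hz _).trans (hz _).symm
  intro s
  let R : Sieve E :=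
    { arrows := fun V g => ((pm M).map g.op).hom s = 0
      downward_closed := fun {V W g} hg k => by
        rw [← map_comp_sec g k s, hg]
        exact map_zero _ }
  have hR : R ∈ etTop X E := by
    let T : Sieve E :=
      { arrows := fun V _ => Nonempty (V ⟶ E₀)
        downward_closed := fun {V W g} hg k => hg.map fun l => k ≫ l }
    have hT : T ∈ etTop X E := mem_etTop_of_forall_point _ fun x => by
      obtain ⟨V, g, g₀, v, -, hv⟩ := exists_affine_over (E₀ := E₀) x (by rw [hs]; exact Set.mem_univ _)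
      exact ⟨V, g, v, ⟨g₀⟩, hv⟩
    refine (etTop X).transitive hT R fun V g hg => ?_
    obtain ⟨g₀⟩ := hg
    refine (etTop X).superset_covering ?_ ((etTop X).pullback_stable g₀ U.mem)
    intro W k hk
    obtain ⟨_, b, _, ⟨i⟩, -⟩ := hk
    exact @Subsingleton.elim _ (h i W b) _ _
  exact sheaf_ext (Rc := (OEt X).obj) (P := pm M) M.isSheaf hR s 0 fun V g hg => hg.trans (map_zero _).symm

/-- Bound from finitely many charts. -/
theorem isLE_of_isPerfectEtD (hX : IsAlgSpace X) (hqc : IsQuasiCompactSp X) (K : DModEt X)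
    (hK : IsPerfectEtD K) : ∃ b : ℤ, K.IsLE b := by
  classical
  have := (isQuasiCompactSp_iff hX).1 hqc
  obtain ⟨W, a, hW, ha, hr⟩ := exists_affine_chart hX isOpen_univ isCompact_univ
  let E₀ : EtOver X := EtOver.mk a ha
  obtain ⟨ι, V, g, hg, hV⟩ := hK E₀
  obtain ⟨U, hU⟩ := exists_affCov (A := etAff X) (E := E₀) hW (Precoverage.generate_mem_toGrothendieck hg)
  have key : ∀ i, ∃ b : ℤ, ∀ n, b < n → ∀ Y : EtOver X, (Y ⟶ U.Z i) →
      Subsingleton ((pm ((DerivedCategory.homologyFunctor (ModEt X) n).obj K)).obj (op Y)) := fun i => by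
    obtain ⟨_, c, _, ⟨j⟩, -⟩ := hU i
    obtain ⟨E, ⟨⟨a, b, hab⟩, -⟩, ⟨eK⟩⟩ := hV j
    refine ⟨b, fun n hn Y k => subsingleton_of_isZero_res (k ≫ c) ?_⟩
    obtain ⟨e⟩ := S6689.nonempty_homology_mapDerivedCategory (resModEt (V j)) K n
    refine IsZero.of_iso ?_ (e.symm ≪≫ (DerivedCategory.homologyFunctor (ModEtOn (V j)) n).mapIso eK ≪≫
      (DerivedCategory.homologyFunctorFactors (ModEtOn (V j)) n).app E)
    exact ((HomologicalComplex.exactAt_iff_isZero_homology _ _).1
      (HomologicalComplex.ExactAt.of_isZero (hab n (Or.inr hn)))) 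
  choose b hb using key
  obtain ⟨B, hB⟩ := (Set.finite_range b).bddAbove
  refine ⟨B, (DerivedCategory.isLE_iff K B).2 fun n hn => isZero_of_chart E₀ hr U fun i Y k =>
    hb i n (lt_of_le_of_lt (hB ⟨i, rfl⟩) hn) Y k⟩

end Groth.Agent.H12AlgSp.EtPerf
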